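import Cfsg.Agent.H380.AltSpec
set_option linter.all false

/-! The element orders of `A₆` and `A₁₀`. -/

set_option autoImplicit false

namespace Cfsg.Agent.H380.AltSpec

theorem six_sub : ∀ x ∈ T 6 6, x.2 = true → x.1 ∈ [1, 2, 3, 4, 5] := by decide

theorem ten_sub : ∀ x ∈ T 10 10, x.2 = true → x.1 ∈ [1, 2, 3, 4, 5, 6, 7, 8, 9, 10, 12, 15, 21] := by
  decide

theorem mem_range_of {n : ℕ} (s : Multiset ℕ) (m : ℕ) (hs : s.sum ≤ n) (h2 : ∀ a ∈ s, 2 ≤ a)
    (he : Even (s.sum + Multiset.card s)) (hm : s.lcm = m) :
    m ∈ Set.range (orderOf : alternatingGroup (Fin n) → ℕ) := by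
  obtain ⟨g, hg⟩ := exists_orderOf (n := n) s hs h2 he
  exact ⟨g, hg.trans hm⟩

/-- The element orders of the alternating group of degree six. -/
theorem range_six : Set.range (orderOf : alternatingGroup (Fin 6) → ℕ) = {n | n ∈ [1, 2, 3, 4, 5]} := by
  ext n
  constructor
  · rintro ⟨g, rfl⟩
    exact six_sub _ (orderOf_mem_T g) rfl
  · intro hn
    change n ∈ [1, 2, 3, 4, 5] at hn
    simp only [List.mem_cons, List.not_mem_nil, or_false] at hn
    rcases hn with rfl | rfl | rfl | rfl | rfl
    · exact ⟨1, orderOf_one⟩
    · exact mem_range_of {2, 2} 2 (by decide) (by decide) (by decide) (by decide)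
    · exact mem_range_of {3} 3 (by decide) (by decide) (by decide) (by decide)
    · exact mem_range_of {4, 2} 4 (by decide) (by decide) (by decide) (by decide)
    · exact mem_range_of {5} 5 (by decide) (by decide) (by decide) (by decide)

/-- The element orders of the alternating group of degree ten. -/
theorem range_ten : Set.range (orderOf : alternatingGroup (Fin 10) → ℕ) =
    {n | n ∈ [1, 2, 3, 4, 5, 6, 7, 8, 9, 10, 12, 15, 21]} := by
  ext n
  constructor
  · rintro ⟨g, rfl⟩
    exact ten_sub _ (orderOf_mem_T g) rfl
  · intro hn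
    change n ∈ [1, 2, 3, 4, 5, 6, 7, 8, 9, 10, 12, 15, 21] at hn
    simp only [List.mem_cons, List.not_mem_nil, or_false] at hn
    rcases hn with rfl | rfl | rfl | rfl | rfl | rfl | rfl | rfl | rfl | rfl | rfl | rfl | rfl
    · exact ⟨1, orderOf_one⟩
    · exact mem_range_of {2, 2} 2 (by decide) (by decide) (by decide) (by decide)
    · exact mem_range_of {3} 3 (by decide) (by decide) (by decide) (by decide)
    · exact mem_range_of {4, 2} 4 (by decide) (by decide) (by decide) (by decide)
    · exact mem_range_of {5} 5 (by decide) (by decide) (by decide) (by decide)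
    · exact mem_range_of {3, 2, 2} 6 (by decide) (by decide) (by decide) (by decide)
    · exact mem_range_of {7} 7 (by decide) (by decide) (by decide) (by decide)
    · exact mem_range_of {8, 2} 8 (by decide) (by decide) (by decide) (by decide)
    · exact mem_range_of {9} 9 (by decide) (by decide) (by decide) (by decide)
    · exact mem_range_of {5, 2, 2} 10 (by decide) (by decide) (by decide) (by decide)
    · exact mem_range_of {4, 3, 2} 12 (by decide) (by decide) (by decide) (by decide)
    · exact mem_range_of {5, 3} 15 (by decide) (by decide) (by decide) (by decide)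
    · exact mem_range_of {7, 3} 21 (by decide) (by decide) (by decide) (by decide)

end Cfsg.Agent.H380.AltSpec
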