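import Mathlib
set_option linter.all false

/-! Element orders of the alternating groups `alternatingGroup (Fin n)`, by enumeration of cycle types. -/

set_option autoImplicit false

namespace Cfsg.Agent.H380.AltSpec

open Equiv

/-- `T fuel n`: the pairs (lcm, parity) of all multisets of numbers `≥ 2` with sum at most `n`
(the parity is `true` when the permutation is even). -/
def T : ℕ → ℕ → List (ℕ × Bool)
  | 0, _ => [(1, true)]
  | fuel + 1, n => (1, true) :: (List.range (n + 1)).flatMap fun a =>
      if 2 ≤ a then (T fuel (n - a)).map fun x => (Nat.lcm a x.1, (x.2 == (a % 2 == 1))) else []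

theorem mem_T (fuel : ℕ) : ∀ (n : ℕ) (s : Multiset ℕ), n ≤ fuel → (∀ a ∈ s, 2 ≤ a) → s.sum ≤ n →
    (s.lcm, decide (Even (s.sum + Multiset.card s))) ∈ T fuel n := by
  induction fuel with
  | zero =>
    intro n s hn h2 hs
    have hn0 : n = 0 := by omega
    subst hn0
    have hs0 : s = 0 := by
      apply Multiset.eq_zero_of_forall_notMem
      intro a ha
      have h1 := h2 a ha
      have h3 := Multiset.le_sum_of_mem ha
      omega
    subst hs0
    simp [T]
  | succ fuel ih =>
    intro n s hn h2 hs
    induction s using Multiset.induction_on with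
    | empty => simp [T]
    | cons a s _ =>
      have ha : 2 ≤ a := h2 a (Multiset.mem_cons_self a s)
      rw [Multiset.sum_cons] at hs
      have hrec := ih (n - a) s (by omega) (fun b hb => h2 b (Multiset.mem_cons_of_mem hb)) (by omega)
      have hgoal : ((a ::ₘ s).lcm, decide (Even ((a ::ₘ s).sum + Multiset.card (a ::ₘ s)))) =
          (Nat.lcm a (s.lcm, decide (Even (s.sum + Multiset.card s))).1,
            ((s.lcm, decide (Even (s.sum + Multiset.card s))).2 == (a % 2 == 1))) := by
        rw [Multiset.lcm_cons, Multiset.sum_cons, Multiset.card_cons]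
        refine Prod.ext rfl ?_
        change decide (Even (a + s.sum + (Multiset.card s + 1))) =
          (decide (Even (s.sum + Multiset.card s)) == (a % 2 == 1))
        by_cases h : Even (s.sum + Multiset.card s) <;> by_cases ha' : a % 2 = 1
        · have : Even (a + s.sum + (Multiset.card s + 1)) := by
            rw [Nat.even_iff] at h ⊢; omega
          simp [h, ha', this]
        · have : ¬ Even (a + s.sum + (Multiset.card s + 1)) := by
            rw [Nat.even_iff] at h ⊢; omega
          simp [h, ha', this]
        · have : ¬ Even (a + s.sum + (Multiset.card s + 1)) := by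
            rw [Nat.even_iff] at h ⊢; omega
          simp [h, ha', this]
        · have : Even (a + s.sum + (Multiset.card s + 1)) := by
            rw [Nat.even_iff] at h ⊢; omega
          simp [h, ha', this]
      rw [hgoal]
      rw [T, List.mem_cons]
      right
      rw [List.mem_flatMap]
      refine ⟨a, ?_, ?_⟩
      · rw [List.mem_range]; omega
      · rw [if_pos ha]
        exact List.mem_map_of_mem (f := fun x : ℕ × Bool => (Nat.lcm a x.1, (x.2 == (a % 2 == 1)))) hrec

/-- The order of an even permutation of `n` letters occurs in `T n n` with parity `true`. -/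
theorem orderOf_mem_T {n : ℕ} (g : alternatingGroup (Fin n)) : (orderOf g, true) ∈ T n n := by
  have h := mem_T n n (Equiv.Perm.cycleType (g : Equiv.Perm (Fin n))) le_rfl
    (fun a ha => Equiv.Perm.two_le_of_mem_cycleType ha)
    (by
      rw [Equiv.Perm.sum_cycleType]
      calc _ ≤ Fintype.card (Fin n) := Finset.card_le_univ _
        _ = n := Fintype.card_fin n)
  have hsign : Even ((Equiv.Perm.cycleType (g : Equiv.Perm (Fin n))).sum +
      Multiset.card (Equiv.Perm.cycleType (g : Equiv.Perm (Fin n)))) := by
    have h1 : Equiv.Perm.sign (g : Equiv.Perm (Fin n)) = 1 := Equiv.Perm.mem_alternatingGroup.1 g.2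
    rw [Equiv.Perm.sign_of_cycleType] at h1
    by_contra hne
    rw [Nat.not_even_iff_odd] at hne
    rw [hne.neg_one_pow] at h1
    exact absurd h1 (by decide)
  rw [Equiv.Perm.lcm_cycleType] at h
  simp only [hsign, decide_true] at h
  rw [← Subgroup.orderOf_coe]
  exact h

/-- A multiset of numbers `≥ 2` with sum at most `n`, of even type, gives an element of the alternating group
whose order is the lcm. -/
theorem exists_orderOf {n : ℕ} (s : Multiset ℕ) (hs : s.sum ≤ n) (h2 : ∀ a ∈ s, 2 ≤ a)
    (he : Even (s.sum + Multiset.card s)) : ∃ g : alternatingGroup (Fin n), orderOf g = s.lcm := by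
  obtain ⟨g, hg⟩ := (Equiv.Perm.exists_with_cycleType_iff (Fin n)).2
    ⟨by rw [Fintype.card_fin]; exact hs, h2⟩
  refine ⟨⟨g, ?_⟩, ?_⟩
  · rw [Equiv.Perm.mem_alternatingGroup, Equiv.Perm.sign_of_cycleType, hg, he.neg_one_pow]
  · rw [← Subgroup.orderOf_coe]
    change orderOf g = _
    rw [← Equiv.Perm.lcm_cycleType, hg]

end Cfsg.Agent.H380.AltSpec
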